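import Cfsg.Agent.H178.RG.Defs

/-!
# S5714, TEAM RG, B1: the first moment bound from Gram data (helper680, task 4536)
-/

set_option autoImplicit false

namespace Cfsg.Agent.H178.RG

open Cfsg Polynomial

/-- `fm_core` for a function defined on `P` only -/
theorem fm_core' {I V S : Type*} [Group I] [Finite I] [MulAction I V] [Finite S] (P : Set (I × V))
    (Γ : P → S)
    (h : ∀ a b : P, Γ a = Γ b → ∃ g : I, ∀ i : ℕ, g • (a.1.1 ^ i • a.1.2) = b.1.1 ^ i • b.1.2) :
    Nat.card P ≤ Nat.card I * Nat.card S := by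
  classical
  let sq : I × V → ℕ → V := fun a i => a.1 ^ i • a.2
  let base : S → Option P := fun s => if h0 : ∃ a : P, Γ a = s then some h0.choose else none
  let G : S → (ℕ → V) → I := fun s σ => match base s with
    | some b => if hσ : ∃ g : I, ∀ i, g • sq b.1 i = σ i then hσ.choose else 1
    | none => 1
  have hG : ∀ a : P, ∃ b : P, base (Γ a) = some b ∧ ∀ i, G (Γ a) (sq a.1) • sq b.1 i = sq a.1 i := by
    intro a
    have h0 : ∃ b : P, Γ b = Γ a := ⟨a, rfl⟩
    have hb : base (Γ a) = some h0.choose := dif_pos h0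
    refine ⟨h0.choose, hb, ?_⟩
    have hσ : ∃ g : I, ∀ i, g • sq h0.choose.1 i = sq a.1 i := h _ _ h0.choose_spec
    have h1 : G (Γ a) (sq a.1) = hσ.choose := by
      simp only [G, hb]
      exact dif_pos hσ
    rw [h1]
    exact hσ.choose_spec
  rw [← Nat.card_prod]
  apply Nat.card_le_card_of_injective (fun a : P => (a.1.1 * G (Γ a) (sq a.1), Γ a))
  intro a a' haa
  obtain ⟨h1, h2⟩ := Prod.mk.inj haa
  obtain ⟨b, hb, hba⟩ := hG a
  obtain ⟨b', hb', hba'⟩ := hG a'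
  have hbb : b = b' := by
    rw [h2, hb'] at hb
    exact (Option.some.inj hb).symm
  subst hbb
  have key : ∀ i : ℕ, sq a.1 (i + 1) = sq a'.1 (i + 1) := by
    intro i
    have h3 : (a.1.1 * G (Γ a) (sq a.1)) • sq b.1 i = (a'.1.1 * G (Γ a') (sq a'.1)) • sq b.1 i := by rw [h1]
    rw [mul_smul, hba, mul_smul, hba'] at h3
    change a.1.1 ^ (i + 1) • a.1.2 = a'.1.1 ^ (i + 1) • a'.1.2
    rw [pow_succ', mul_smul, pow_succ', mul_smul]
    exact h3
  have hv : a.1.2 = a'.1.2 := by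
    have hpos : 0 < Nat.card I := Nat.card_pos
    obtain ⟨m, hm⟩ : ∃ m, Nat.card I = m + 1 := ⟨Nat.card I - 1, by omega⟩
    have h3 := key m
    change a.1.1 ^ (m + 1) • a.1.2 = a'.1.1 ^ (m + 1) • a'.1.2 at h3
    rwa [← hm, pow_card_eq_one', pow_card_eq_one', one_smul, one_smul] at h3
  have hsq : sq a.1 = sq a'.1 := by
    funext i
    cases i with
    | zero =>
      change a.1.1 ^ 0 • a.1.2 = a'.1.1 ^ 0 • a'.1.2
      rw [pow_zero, pow_zero, one_smul, one_smul, hv]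
    | succ i => exact key i
  have hx : a.1.1 = a'.1.1 := by
    rw [h2, hsq] at h1
    exact mul_right_cancel h1
  exact Subtype.ext (Prod.ext hx hv)

/-- B1 -/
theorem fm_core {I V S : Type} [Group I] [Finite I] [MulAction I V] [Finite V] [Finite S] (P : Set (I × V))
    (Γ : I × V → S)
    (h : ∀ a ∈ P, ∀ b ∈ P, Γ a = Γ b → ∃ g : I, ∀ i : ℕ, g • (a.1 ^ i • a.2) = b.1 ^ i • b.2) :
    Nat.card P ≤ Nat.card I * Nat.card S :=
  fm_core' P (fun a => Γ a.1) fun a b hab => h a.1 a.2 b.1 b.2 hab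

theorem fm_form {F : Type} [Field F] [Fintype F] {ι : Type} [Fintype ι] [DecidableEq ι] {G : Type} [Group G] [Finite G]
    (ρ : G →* Matrix ι ι F)
    {B : (ι → F) → (ι → F) → F} {Q : (ι → F) → F} (hW : WittP ρ B Q) (f : F[X]) (S : Set ((ℤ → F) × F)) (hS : S.Finite)
    (h : ∀ (x : G) (v : ι → F), Ann (ρ x) v f → ((fun i : ℤ => B ((ρ (x ^ i)).mulVec v) v), Q v) ∈ S) :
    FM ρ f S.ncard := by
  let act : MulAction G (ι → F) :=
    { smul := fun g v => (ρ g).mulVec v
      one_smul := fun v => by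
        change (ρ 1).mulVec v = v
        rw [map_one, Matrix.one_mulVec]
      mul_smul := fun g g' v => by
        change (ρ (g * g')).mulVec v = (ρ g).mulVec ((ρ g').mulVec v)
        rw [map_mul, Matrix.mulVec_mulVec] }
  have hfin : Finite S := hS
  have h1 := fm_core' (I := G) (V := ι → F) (S := S) {xv : G × (ι → F) | Ann (ρ xv.1) xv.2 f}
    (fun a => ⟨((fun i : ℤ => B ((ρ (a.1.1 ^ i)).mulVec a.1.2) a.1.2), Q a.1.2), h a.1.1 a.1.2 a.2⟩) (by
    intro a b hab
    have h2 := congrArg Subtype.val hab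
    obtain ⟨h3, h4⟩ := Prod.mk.inj h2
    obtain ⟨g, hg⟩ := hW f a.1.1 b.1.1 a.1.2 b.1.2 a.2 b.2 h4 (fun i => congrFun h3 i)
    exact ⟨g, fun i => hg i⟩)
  unfold FM
  rw [Nat.card_coe_set_eq S] at h1
  have h2 : (Nat.card {xv : G × (ι → F) // Ann (ρ xv.1) xv.2 f} : ℝ) ≤ ((Nat.card G * S.ncard : ℕ) : ℝ) := by
    exact_mod_cast h1
  rw [Nat.cast_mul, mul_comm] at h2
  exact h2

end Cfsg.Agent.H178.RG
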